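import Cfsg.Agent.SporB.Fi23.Cover
import Cfsg.Agent.SporB.Fi23.Rep.Orbit
import Cfsg.Agent.SporB.Fi23.Rep.Conj
import Cfsg.Prelude.Def_SporadicB
import Mathlib.GroupTheory.Complement
import Mathlib.GroupTheory.Perm.Cycle.Type

set_option autoImplicit false
set_option maxRecDepth 100000

namespace Cfsg.Agent.CosetEnum.Fi23

open scoped Pointwise

theorem orbit_at (c m : ℕ) (hc : c < 3) (hr : Rep.roots.getD c 0 < 31671)
    (hl : Nat.beq (Rep.orb.getLab (Rep.roots.getD c 0)) c = true)
    (hm : countBelow (fun i => Nat.beq (Rep.orb.getLab i) c) 31671 = m) :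
    ∃ q : pres.Gp ⧸ rep.stab nodup, (MulAction.orbit (rep.stab nodup) q).ncard = m := by
  obtain ⟨q, -, -, h2⟩ := rep.exists_orbit nodup Rep.descend Rep.ws Rep.ws_ok stab_closure Rep.orb
    c (Rep.roots.getD c 0) hr hl
    (fun i hi => allRange_spec (Rep.orbit i hi) c (Nat.zero_le _) (by omega))
  exact ⟨q, h2.trans hm⟩

theorem subdegrees : (∃ q : pres.Gp ⧸ rep.stab nodup,
      (MulAction.orbit (rep.stab nodup) q).ncard = 3510) ∧
    ∃ q : pres.Gp ⧸ rep.stab nodup, (MulAction.orbit (rep.stab nodup) q).ncard = 28160 :=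
  ⟨orbit_at 2 3510 (by omega) (by decide +kernel) (by decide +kernel) Rep.size2,
    orbit_at 1 28160 (by omega) (by decide +kernel) (by decide +kernel) Rep.size1⟩

theorem same_orbit {i j : Fin Rep.tbl.n} (h : Rep.orb.getLab i = Rep.orb.getLab j) :
    ∃ k ∈ H, rep.hom nodup k i = j := by
  have hc : Rep.orb.getLab i < 3 :=
    Nat.le_of_ble_eq_true (allRange_spec Rep.lab_ok i (Nat.zero_le _) (by have := i.2; simp [Rep.tbl] at this ⊢ <;> omega))
  have hr := allRange_spec Rep.roots_ok _ (Nat.zero_le _) (by omega : Rep.orb.getLab i < 0 + 3)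
  rw [Bool.and_eq_true] at hr
  obtain ⟨q, -, himg, -⟩ := rep.exists_orbit nodup Rep.descend Rep.ws Rep.ws_ok stab_closure Rep.orb
    (Rep.orb.getLab i) (Rep.roots.getD (Rep.orb.getLab i) 0) (Nat.le_of_ble_eq_true hr.1) hr.2
    (fun p hp => allRange_spec (Rep.orbit p hp) _ (Nat.zero_le _) (by omega))
  have hi : i ∈ rep.point nodup '' MulAction.orbit (rep.stab nodup) q := by
    rw [himg]; exact Nat.beq_refl _
  have hj : j ∈ rep.point nodup '' MulAction.orbit (rep.stab nodup) q := by
    rw [himg]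
    show Nat.beq (Rep.orb.getLab j) (Rep.orb.getLab i) = true
    rw [h]; exact Nat.beq_refl _
  obtain ⟨p, ⟨a, ha⟩, rfl⟩ := hi
  obtain ⟨p', ⟨b, hb⟩, rfl⟩ := hj
  refine ⟨(b : pres.Gp) * (a : pres.Gp)⁻¹, ?_, ?_⟩
  · rw [H_stab.1]; exact mul_mem b.2 (inv_mem a.2)
  · subst ha hb
    show _ = rep.point nodup ((b : pres.Gp) • q)
    rw [show rep.point nodup ((fun x : rep.stab nodup => x • q) a) =
      rep.point nodup ((a : pres.Gp) • q) from rfl]
    rw [rep.point_smul, rep.point_smul, map_mul, map_inv, Equiv.Perm.mul_apply]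
    simp

theorem div_ok : ∀ A : Finset ℕ, A ⊆ Finset.range Rep.roots.length → 0 ∈ A →
    (∑ c ∈ A, countBelow (fun i => Nat.beq (Rep.orb.getLab i) c) Rep.tbl.n) ∣ Rep.tbl.n →
    A = {0} ∨ A = Finset.range Rep.roots.length := by
  intro A hA h0
  have hA' : A ∈ (Finset.range 3).powerset := Finset.mem_powerset.mpr hA
  have e : ∀ c ∈ A, countBelow (fun i => Nat.beq (Rep.orb.getLab i) c) Rep.tbl.n =
      [1, 28160, 3510].getD c 0 := by
    intro c hc
    have : c < 3 := Finset.mem_range.mp (hA hc)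
    interval_cases c
    exacts [Rep.size0, Rep.size1, Rep.size2]
  rw [Finset.sum_congr rfl e]
  revert h0
  revert A
  decide +kernel

theorem maximal (K : Subgroup pres.Gp) (hK : H ≤ K) : K = H ∨ K = ⊤ := by
  rw [H_stab.1] at hK ⊢
  exact rep.stab_maximal nodup Rep.descend Rep.ws_ok stab_closure Rep.orb Rep.roots (by decide)
    Rep.lab_ok Rep.roots_ok Rep.orbit div_ok Rep.size0 hK

theorem inv_word (W : List ℕ) : evalWord pres.val W.reverse = (evalWord pres.val W)⁻¹ := by
  induction W with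
  | nil => simp [evalWord]
  | cons l W ih =>
    rw [List.reverse_cons, evalWord_append, ih]
    show _ * (pres.val l * 1) = (pres.val l * evalWord pres.val W)⁻¹
    rw [mul_inv_rev, mul_one]
    congr 1
    symm
    apply inv_eq_of_mul_eq_one_right
    rcases Nat.lt_or_ge l pres.gens.length with h | h
    · rw [InvPres.val, letterVal_of_lt _ _ h]
      exact pres.sq_val _
    · simp [InvPres.val, letterVal, List.getElem?_eq_none h]

theorem z_conj : z = evalWord pres.val Rep.conjU * pres.val Rep.conjL *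
    (evalWord pres.val Rep.conjU)⁻¹ := by
  rw [← inv_word, mul_assoc]
  rw [show pres.val Rep.conjL * evalWord pres.val Rep.conjU.reverse =
    evalWord pres.val (Rep.conjL :: Rep.conjU.reverse) from rfl, ← evalWord_append]
  apply faithful
  rw [← inv_inj]
  apply Equiv.ext
  intro i
  apply Fin.ext
  show (((rep.hom nodup (evalWord pres.val Rep.zWord))⁻¹ i : Fin Rep.tbl.n) : ℕ) = _
  rw [rep.hom_inv_apply nodup (by decide) i, rep.hom_inv_apply nodup (by decide) i]
  exact Nat.eq_of_beq_eq_true (Rep.conj i i.2)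

theorem braid {G : Type} [Group G] {x y : G} (hx : x * x = 1) (hy : y * y = 1)
    (h : x * (y * (x * (y * (x * (y * 1))))) = 1) : (x * y) * x * (x * y)⁻¹ = y := by
  have h' : x * (y * (x * (y * x))) = y⁻¹ := by
    apply eq_inv_of_mul_eq_one_left
    simpa [mul_assoc] using h
  rw [mul_inv_rev, inv_eq_of_mul_eq_one_right hx, inv_eq_of_mul_eq_one_right hy]
  calc x * y * x * (y * x) = x * (y * (x * (y * x))) := by simp [mul_assoc]
    _ = y⁻¹ := h'
    _ = y := inv_eq_of_mul_eq_one_right hy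

theorem top_of_mem (N : Subgroup pres.Gp) [hN : N.Normal] (hz : z ∈ N) : N = ⊤ := by
  have hx : pres.val Rep.conjL ∈ N := by
    have := hN.conj_mem z hz (evalWord pres.val Rep.conjU)⁻¹
    rw [z_conj, inv_inv] at this
    simpa [mul_assoc] using this
  have hstep : ∀ i j, i < 10 → j < 10 → [i, j, i, j, i, j] ∈ pres.relWords →
      [i, i] ∈ pres.relWords → [j, j] ∈ pres.relWords → pres.val i ∈ N → pres.val j ∈ N := by
    intro i j _ _ h hi hj hm
    have h1 := pres.rel_val _ h
    have h2 := pres.rel_val _ hi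
    have h3 := pres.rel_val _ hj
    simp only [evalWord] at h1
    simp only [evalWord, mul_one] at h2 h3
    rw [← braid h2 h3 h1]
    exact hN.conj_mem _ hm _
  have hx1 : pres.val 1 ∈ N := hx
  have h0 := hstep 1 0 (by omega) (by omega) (by decide +kernel) (by decide +kernel) (by decide +kernel) hx1
  have h2 := hstep 1 2 (by omega) (by omega) (by decide +kernel) (by decide +kernel) (by decide +kernel) hx1
  have h3 := hstep 2 3 (by omega) (by omega) (by decide +kernel) (by decide +kernel) (by decide +kernel) h2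
  have h4 := hstep 3 4 (by omega) (by omega) (by decide +kernel) (by decide +kernel) (by decide +kernel) h3
  have h5 := hstep 4 5 (by omega) (by omega) (by decide +kernel) (by decide +kernel) (by decide +kernel) h4
  have h6 := hstep 5 6 (by omega) (by omega) (by decide +kernel) (by decide +kernel) (by decide +kernel) h5
  have h7 := hstep 6 7 (by omega) (by omega) (by decide +kernel) (by decide +kernel) (by decide +kernel) h6
  have h8 := hstep 3 8 (by omega) (by omega) (by decide +kernel) (by decide +kernel) (by decide +kernel) h3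
  have h9 := hstep 8 9 (by omega) (by omega) (by decide +kernel) (by decide +kernel) (by decide +kernel) h8
  rw [eq_top_iff, ← pres.closure_val, Subgroup.closure_le]
  rintro _ ⟨l, hl, rfl⟩
  have hl' : l < 10 := hl
  interval_cases l
  exacts [h0, hx1, h2, h3, h4, h5, h6, h7, h8, h9]

theorem le_of_cover {L : Subgroup H} [hL : L.Normal] (h : L.map cov = ⊤) : L = ⊤ := by
  rw [eq_top_iff, ← perfect, commutator_def, Subgroup.commutator_le]
  have hc : ∀ g : H, ∃ l ∈ L, cov (g * l⁻¹) = 1 := by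
    intro g
    have hg : cov g ∈ L.map cov := h ▸ Subgroup.mem_top _
    obtain ⟨l, hl, hlg⟩ := hg
    exact ⟨l, hl, by rw [map_mul, map_inv, hlg, mul_inv_cancel]⟩
  have hcen : ∀ c : H, cov c = 1 → ∀ g : H, g * c = c * g := by
    intro c hcc g
    have hk : cov (g * c * g⁻¹) = 1 := by simp [hcc]
    rcases ker_cases hcc with e | e
    · have : c = 1 := Subtype.ext e
      subst this; simp
    · rcases ker_cases hk with e' | e'
      · have h1 : g * c * g⁻¹ = 1 := Subtype.ext e'
        rw [conj_eq_one_iff] at h1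
        subst h1; simp
      · have h1 : g * c * g⁻¹ = c := Subtype.ext (e'.trans e.symm)
        rw [mul_inv_eq_iff_eq_mul] at h1
        exact h1
  intro a _ b _
  obtain ⟨l, hl, ha⟩ := hc a
  obtain ⟨m, hm, hb⟩ := hc b
  rw [commutatorElement_def]
  have e : a * b * a⁻¹ * b⁻¹ = l * m * l⁻¹ * m⁻¹ := by
    have ea : a = (a * l⁻¹) * l := by group
    have eb : b = (b * m⁻¹) * m := by group
    have c1 := hcen _ ha
    have c2 := hcen _ hb
    generalize a * l⁻¹ = c at ea c1
    generalize b * m⁻¹ = d at eb c2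
    subst ea eb
    have i1 : ∀ g : H, g * c⁻¹ = c⁻¹ * g := fun g => (Commute.inv_right (c1 g)).eq
    rw [mul_inv_rev, mul_inv_rev]
    calc c * l * (d * m) * (l⁻¹ * c⁻¹) * (m⁻¹ * d⁻¹)
        = c * l * d * m * l⁻¹ * (c⁻¹ * m⁻¹) * d⁻¹ := by group
      _ = c * l * d * m * l⁻¹ * (m⁻¹ * c⁻¹) * d⁻¹ := by rw [← i1]
      _ = c * (l * d) * m * l⁻¹ * m⁻¹ * c⁻¹ * d⁻¹ := by group
      _ = c * (d * l) * m * l⁻¹ * m⁻¹ * c⁻¹ * d⁻¹ := by rw [← c2]
      _ = (c * d) * (l * m * l⁻¹ * m⁻¹) * (c⁻¹ * d⁻¹) := by group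
      _ = (c * d) * ((l * m * l⁻¹ * m⁻¹) * c⁻¹) * d⁻¹ := by group
      _ = (c * d) * (c⁻¹ * (l * m * l⁻¹ * m⁻¹)) * d⁻¹ := by rw [i1]
      _ = (c * d * c⁻¹) * ((l * m * l⁻¹ * m⁻¹) * d⁻¹) := by group
      _ = (c * d * c⁻¹) * (d⁻¹ * (l * m * l⁻¹ * m⁻¹)) := by rw [(Commute.inv_right (c2 _)).eq]
      _ = (c * d * c⁻¹ * d⁻¹) * (l * m * l⁻¹ * m⁻¹) := by group
      _ = l * m * l⁻¹ * m⁻¹ := by rw [show c * d = d * c from c2 c]; group
  rw [e]
  exact mul_mem (mul_mem (mul_mem hl hm) (inv_mem hl)) (inv_mem hm)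

theorem simple : IsSimpleGroup pres.Gp := by
  haveI := finite
  haveI : Nontrivial pres.Gp := ⟨⟨z, 1, z_ne_one⟩⟩
  refine ⟨fun N hN => ?_⟩
  rcases eq_or_ne N ⊥ with hb | hb
  · exact Or.inl hb
  right
  have hNH : ¬ N ≤ H := by
    intro hle
    apply hb
    rw [eq_bot_iff]
    intro n hn
    rw [Subgroup.mem_bot]
    apply faithful
    rw [map_one]
    apply Equiv.ext
    intro i
    obtain ⟨g, hg⟩ := rep.transitive nodup Rep.descend i
    have h1 : g⁻¹ * n * g ∈ H := hle (by simpa using hN.conj_mem n hn g⁻¹)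
    rw [H_stab.1, InvPres.Rep.mem_stab, map_mul, map_mul, map_inv, Equiv.Perm.mul_apply,
      Equiv.Perm.mul_apply, hg, Equiv.Perm.inv_eq_iff_eq] at h1
    rw [h1, hg]
    rfl
  have hsup : N ⊔ H = ⊤ := (maximal _ le_sup_right).resolve_left
    (fun h => hNH (h ▸ le_sup_left))
  let L : Subgroup H := N.subgroupOf H
  haveI : L.Normal := hN.subgroupOf H
  haveI := Fi22.simple
  have hM : (L.map cov).Normal := Subgroup.Normal.map inferInstance cov cov_surjective
  rcases hM.eq_bot_or_eq_top with hM | hM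
  swap
  · have hL := le_of_cover hM
    have hHN : H ≤ N := Subgroup.subgroupOf_eq_top.mp hL
    rw [← hsup, sup_of_le_left hHN]
  by_cases hz : z ∈ N
  · exact top_of_mem N hz
  exfalso
  have htriv : ∀ n ∈ N, n ∈ H → n = 1 := by
    intro n hn hnH
    have : cov ⟨n, hnH⟩ ∈ L.map cov := Subgroup.mem_map_of_mem _ hn
    rw [hM, Subgroup.mem_bot] at this
    rcases ker_cases this with h | h
    · exact h
    · exact absurd (h ▸ hn : z ∈ N) hz
  have hcompl : N.IsComplement' H := by
    refine Subgroup.isComplement'_of_disjoint_and_mul_eq_univ ?_ ?_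
    · rw [Subgroup.disjoint_def]
      exact fun {n} hn hnH => htriv n hn hnH
    · rw [← Subgroup.normal_mul, hsup, Subgroup.coe_top]
  have hcard : Nat.card N = 31671 := by
    have h1 := hcompl.card_mul
    rw [card_eq, card_H.2] at h1
    omega
  have hpt : ∀ n ∈ N, ∀ m ∈ N, rep.hom nodup n rep.base = rep.hom nodup m rep.base → n = m := by
    intro n hn m hm h
    have : n⁻¹ * m ∈ H := by
      rw [H_stab.1, InvPres.Rep.mem_stab, map_mul, map_inv, Equiv.Perm.mul_apply,
        Equiv.Perm.inv_eq_iff_eq]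
      exact h.symm
    exact inv_mul_eq_one.mp (htriv _ (mul_mem (inv_mem hn) hm) this)
  have hlab : ∀ n ∈ N, n ≠ 1 → 0 < Rep.orb.getLab (rep.hom nodup n rep.base) ∧
      Rep.orb.getLab (rep.hom nodup n rep.base) < 3 := by
    intro n hn hne
    refine ⟨Nat.pos_of_ne_zero fun h0 => hne ?_, Nat.le_of_ble_eq_true (allRange_spec Rep.lab_ok _
      (Nat.zero_le _) (by have := (rep.hom nodup n rep.base).2; simp [Rep.tbl] at this ⊢ <;> omega))⟩
    obtain ⟨k, hk, hkn⟩ := same_orbit (i := rep.base) (j := rep.hom nodup n rep.base)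
      (by rw [h0]; exact Nat.eq_of_beq_eq_true (by decide +kernel))
    rw [H_stab.1, InvPres.Rep.mem_stab] at hk
    apply hpt n hn 1 (one_mem N)
    rw [← hkn, hk, map_one]
    rfl
  have hconj : ∀ n ∈ N, ∀ m ∈ N, Rep.orb.getLab (rep.hom nodup n rep.base) =
      Rep.orb.getLab (rep.hom nodup m rep.base) → orderOf n = orderOf m := by
    intro n hn m hm h
    obtain ⟨k, hk, hkn⟩ := same_orbit h
    have e : k * n * k⁻¹ = m := by
      apply hpt _ (hN.conj_mem n hn k) m hm
      have hk' := inv_mem hk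
      rw [H_stab.1, InvPres.Rep.mem_stab] at hk'
      rw [map_mul, map_mul, Equiv.Perm.mul_apply, Equiv.Perm.mul_apply, hk', hkn]
    rw [← e]
    exact ((MulAut.conj k).orderOf_eq n).symm
  haveI : Fact (Nat.Prime 3) := ⟨by norm_num⟩
  haveI : Fact (Nat.Prime 17) := ⟨by norm_num⟩
  haveI : Fact (Nat.Prime 23) := ⟨by norm_num⟩
  obtain ⟨a, ha⟩ := exists_prime_orderOf_dvd_card' (G := N) 3 (by rw [hcard]; norm_num)
  obtain ⟨b, hb'⟩ := exists_prime_orderOf_dvd_card' (G := N) 17 (by rw [hcard]; norm_num)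
  obtain ⟨c, hc⟩ := exists_prime_orderOf_dvd_card' (G := N) 23 (by rw [hcard]; norm_num)
  rw [← Subgroup.orderOf_coe] at ha hb' hc
  have ha1 : (a : pres.Gp) ≠ 1 := fun h => by simp [h] at ha
  have hb1 : (b : pres.Gp) ≠ 1 := fun h => by simp [h] at hb'
  have hc1 : (c : pres.Gp) ≠ 1 := fun h => by simp [h] at hc
  have la := hlab _ a.2 ha1
  have lb := hlab _ b.2 hb1
  have lc := hlab _ c.2 hc1
  have hab := hconj _ a.2 _ b.2
  have hac := hconj _ a.2 _ c.2
  have hbc := hconj _ b.2 _ c.2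
  omega

theorem center_fi22 : Subgroup.center Fi22.pres.Gp = ⊥ := by
  haveI := Fi22.simple
  rcases (inferInstance : (Subgroup.center Fi22.pres.Gp).Normal).eq_bot_or_eq_top with h | h
  · exact h
  exfalso
  letI : CommGroup Fi22.pres.Gp :=
    { (inferInstance : Group Fi22.pres.Gp) with
      mul_comm := fun a b => (Subgroup.mem_center_iff.mp (h ▸ Subgroup.mem_top b) a) }
  have e := hom_comm_trivial cov
  have h1 : Nat.card Fi22.pres.Gp = 1 := by
    rw [Nat.card_eq_one_iff_unique]
    refine ⟨⟨fun a b => ?_⟩, ⟨1⟩⟩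
    obtain ⟨a', rfl⟩ := cov_surjective a
    obtain ⟨b', rfl⟩ := cov_surjective b
    rw [e]
    rfl
  rw [Fi22.card_eq.1] at h1
  omega

theorem center_H : Subgroup.center H = cov.ker := by
  apply le_antisymm
  · intro c hc
    rw [MonoidHom.mem_ker, ← Subgroup.mem_bot, ← center_fi22, Subgroup.mem_center_iff]
    intro g
    obtain ⟨g', rfl⟩ := cov_surjective g
    rw [← map_mul, Subgroup.mem_center_iff.mp hc g', map_mul]
  · intro c hc
    rw [Subgroup.mem_center_iff]
    intro g
    have hk : cov (g * c * g⁻¹) = 1 := by simp [MonoidHom.mem_ker.mp hc]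
    rcases ker_cases (MonoidHom.mem_ker.mp hc) with e | e
    · have : c = 1 := Subtype.ext e
      subst this; simp
    · rcases ker_cases hk with e' | e'
      · have h1 : g * c * g⁻¹ = 1 := Subtype.ext e'
        rw [conj_eq_one_iff] at h1
        subst h1; simp
      · have h1 : g * c * g⁻¹ = c := Subtype.ext (e'.trans e.symm)
        rw [mul_inv_eq_iff_eq_mul] at h1
        exact h1

theorem double_cover : IsNonsplitDoubleCover H Fi22.pres.Gp := by
  haveI := finite
  refine ⟨by rw [center_H]; exact card_H.1,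
    ⟨(QuotientGroup.quotientMulEquivOfEq center_H).trans
      (QuotientGroup.quotientKerEquivOfSurjective cov cov_surjective)⟩, fun L hL => ?_⟩
  have hsup : Subgroup.center H ⊔ L = ⊤ := hL.sup_eq_top
  have hLn : L.Normal := by
    refine ⟨fun l hl g => ?_⟩
    have hg : g ∈ ((Subgroup.center H : Set H) * (L : Set H)) := by
      rw [hL.mul_eq]; trivial
    obtain ⟨c, hc, m, hm, rfl⟩ := Set.mem_mul.mp hg
    have e : c * m * l * (c * m)⁻¹ = m * l * m⁻¹ := by
      have h1 := Subgroup.mem_center_iff.mp hc (m * l * m⁻¹)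
      calc c * m * l * (c * m)⁻¹ = c * (m * l * m⁻¹) * c⁻¹ := by group
        _ = (m * l * m⁻¹) * c * c⁻¹ := by rw [h1]
        _ = m * l * m⁻¹ := by group
    rw [e]
    exact mul_mem (mul_mem hm hl) (inv_mem hm)
  have htop : L.map cov = ⊤ := by
    have hker : (Subgroup.center H).map cov = ⊥ := by
      rw [Subgroup.map_eq_bot_iff, center_H]
    have h := Subgroup.map_sup (Subgroup.center H) L cov
    rw [hsup, hker, bot_sup_eq, Subgroup.map_top_of_surjective cov cov_surjective] at h
    exact h.symm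
  have hl : L = ⊤ := le_of_cover htop
  have hd := hL.disjoint
  rw [hl, disjoint_top] at hd
  have h2 := card_H.1
  rw [← center_H, hd, Subgroup.card_bot] at h2
  omega

end Cfsg.Agent.CosetEnum.Fi23
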