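import Cfsg.Agent.SporB.Fi23.Base
import Cfsg.Agent.SporB.Fi23.Rep.Sigma
import Cfsg.Agent.SporB.Fi22.Main
import Cfsg.Agent.Lib.CosetEnum.Glue
import Mathlib.GroupTheory.Abelianization.Defs

set_option autoImplicit false
set_option maxRecDepth 100000

namespace Cfsg.Agent.CosetEnum.Fi23

/-- The pairs of corresponding generators. -/
noncomputable def corr : Subgroup (pres.Gp × Fi22.pres.Gp) :=
  Subgroup.closure ((fun l => (pres.subVal A.sel l, Fi22.pres.val l)) '' Set.Iio 9)

theorem map_fst : corr.map (MonoidHom.fst _ _) = H := by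
  rw [corr, MonoidHom.map_closure, Set.image_image, H, InvPres.sub]
  rfl

theorem sig_lt (k : Fin Fi22.Rep.tbl.n) : Rep.sig k < Rep.tbl.n := by
  have h := allRange_spec Rep.sig_ok (k : ℕ) (Nat.zero_le _) (by have := k.2; simp [Fi22.Rep.tbl] at this ⊢; omega)
  simp only [Bool.and_eq_true] at h
  exact Nat.le_of_ble_eq_true h.1.1

/-- The map of points. -/
noncomputable def sg (k : Fin Fi22.Rep.tbl.n) : Fin Rep.tbl.n := ⟨Rep.sig k, sig_lt k⟩

theorem sg_inj : Function.Injective sg := by
  intro a b h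
  have ha := allRange_spec Rep.sig_ok (a : ℕ) (Nat.zero_le _) (by have := a.2; simp [Fi22.Rep.tbl] at this ⊢; omega)
  have hb := allRange_spec Rep.sig_ok (b : ℕ) (Nat.zero_le _) (by have := b.2; simp [Fi22.Rep.tbl] at this ⊢; omega)
  simp only [Bool.and_eq_true] at ha hb
  apply Fin.ext
  rw [← Nat.eq_of_beq_eq_true ha.1.2, ← Nat.eq_of_beq_eq_true hb.1.2]
  exact congrArg Rep.sinv (congrArg Fin.val h)

theorem equivariant {p : pres.Gp × Fi22.pres.Gp} (hp : p ∈ corr) :
    ∀ k, rep.hom nodup p.1 (sg k) = sg (Fi22.rep.hom Fi22.nodup p.2 k) := by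
  unfold corr at hp
  induction hp using Subgroup.closure_induction with
  | mem x hx =>
    obtain ⟨l, hl, rfl⟩ := hx
    intro k
    have hl9 : l < 9 := hl
    have h := allRange_spec Rep.sig_ok (k : ℕ) (Nat.zero_le _) (by have := k.2; simp [Fi22.Rep.tbl] at this ⊢; omega)
    simp only [Bool.and_eq_true] at h
    have h' := Nat.eq_of_beq_eq_true (allRange_spec h.2 l (Nat.zero_le _) (by omega))
    have e : pres.subVal A.sel l = pres.val (Rep.sel.getD l 0) := by
      unfold InvPres.subVal
      interval_cases l <;> rfl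
    have hs : Rep.sel.getD l 0 < Rep.tbl.nl := by interval_cases l <;> decide
    apply Fin.ext
    show ((rep.hom nodup (pres.subVal A.sel l) (sg k) : Fin Rep.tbl.n) : ℕ) =
      Rep.sig ((Fi22.rep.hom Fi22.nodup (Fi22.pres.val l) k : Fin Fi22.Rep.tbl.n) : ℕ)
    rw [e, rep.gen_apply nodup hs, Fi22.rep.gen_apply Fi22.nodup (show l < Fi22.Rep.tbl.nl from hl9)]
    exact h'
  | one => intro k; simp
  | mul a b _ _ ha hb => intro k; simp [ha, hb]
  | inv a _ ha =>
    intro k
    simp only [Prod.fst_inv, Prod.snd_inv, map_inv, Equiv.Perm.inv_eq_iff_eq]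
    rw [ha]
    simp

theorem snd_eq_one {p : pres.Gp × Fi22.pres.Gp} (hp : p ∈ corr)
    (h : rep.hom nodup p.1 = 1) : p.2 = 1 := by
  apply Fi22.card_eq.2
  rw [map_one]
  apply Equiv.ext
  intro k
  apply sg_inj
  rw [← equivariant hp k, h]
  rfl

theorem fst_inj : Function.Injective ((MonoidHom.fst _ _).comp corr.subtype : corr →* pres.Gp) := by
  rw [injective_iff_map_eq_one]
  intro p hp
  have h1 : p.1.1 = 1 := hp
  exact Subtype.ext (Prod.ext h1 (snd_eq_one p.2 (by rw [h1, map_one])))

theorem fst_range : ((MonoidHom.fst _ _).comp corr.subtype : corr →* pres.Gp).range = H := by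
  rw [MonoidHom.range_comp, Subgroup.range_subtype, map_fst]

/-- The covering map. -/
noncomputable def cov : H →* Fi22.pres.Gp :=
  ((MonoidHom.snd _ _).comp corr.subtype).comp
    ((MonoidHom.ofInjective fst_inj).trans (MulEquiv.subgroupCongr fst_range)).symm.toMonoidHom

theorem cov_spec {p : pres.Gp × Fi22.pres.Gp} (hp : p ∈ corr) (h : p.1 ∈ H) :
    cov ⟨p.1, h⟩ = p.2 := by
  have e : ((MonoidHom.ofInjective fst_inj).trans (MulEquiv.subgroupCongr fst_range)).symm
      ⟨p.1, h⟩ = (⟨p, hp⟩ : corr) := by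
    rw [MulEquiv.symm_apply_eq]
    rfl
  show (((MonoidHom.snd _ _).comp corr.subtype)
    (((MonoidHom.ofInjective fst_inj).trans (MulEquiv.subgroupCongr fst_range)).symm ⟨p.1, h⟩)) = p.2
  rw [e]
  rfl

theorem cov_mem (g : H) : ((g : pres.Gp), cov g) ∈ corr := by
  have hg : (g : pres.Gp) ∈ corr.map (MonoidHom.fst _ _) := by rw [map_fst]; exact g.2
  obtain ⟨p, hp, hpg⟩ := hg
  have h : p.1 ∈ H := by rw [show p.1 = (g : pres.Gp) from hpg]; exact g.2
  have : g = ⟨p.1, h⟩ := Subtype.ext hpg.symm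
  rw [this, cov_spec hp h]
  exact hp

theorem word_corr : ∀ W : List ℕ, (∀ l ∈ W, l < 9) →
    (evalWord (pres.subVal A.sel) W, evalWord Fi22.pres.val W) ∈ corr
  | [], _ => one_mem _
  | l :: W, h => by
    have h1 : (pres.subVal A.sel l, Fi22.pres.val l) ∈ corr :=
      Subgroup.subset_closure ⟨l, h l List.mem_cons_self, rfl⟩
    exact mul_mem h1 (word_corr W fun x hx => h x (List.mem_cons_of_mem _ hx))

theorem cov_surjective : Function.Surjective cov := by
  rw [← MonoidHom.range_eq_top, eq_top_iff, ← Fi22.pres.closure_val, Subgroup.closure_le]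
  rintro _ ⟨l, hl, rfl⟩
  have hc : (pres.subVal A.sel l, Fi22.pres.val l) ∈ corr := Subgroup.subset_closure ⟨l, hl, rfl⟩
  exact ⟨⟨pres.subVal A.sel l, map_fst ▸ ⟨_, hc, rfl⟩⟩, cov_spec hc _⟩

/-- The word of the central involution in the letters of `H`. -/
def zLoc : List ℕ := repWord [1, 2, 3, 4, 5, 6, 7] 9

/-- The central involution. -/
noncomputable def z : pres.Gp := evalWord pres.val Rep.zWord

theorem z_loc : z = evalWord (pres.subVal A.sel) zLoc := by
  rw [pres.evalWord_subVal A.sel (by decide), z]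
  congr 1

theorem z_mem : z ∈ H := by
  rw [← map_fst]
  exact ⟨_, word_corr zLoc (by decide), z_loc.symm⟩

theorem cov_z : cov ⟨z, z_mem⟩ = 1 := by
  have h := word_corr zLoc (by decide)
  have e : (⟨z, z_mem⟩ : H) = ⟨evalWord (pres.subVal A.sel) zLoc, z_loc ▸ z_mem⟩ := Subtype.ext z_loc
  rw [e, cov_spec h]
  exact Fi22.pres.rel_val _ (List.mem_append_right _ (by decide))

theorem z_hom : rep.hom nodup z ≠ 1 := by
  intro h
  have h1 := rep.hom_inv_apply nodup (W := Rep.zWord) (by decide) ⟨1, by decide⟩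
  rw [show evalWord pres.val Rep.zWord = z from rfl, h, inv_one] at h1
  have h2 := Rep.z_moves
  rw [← h1] at h2
  exact Bool.noConfusion h2

theorem z_ne_one : z ≠ 1 := fun h => z_hom (by rw [h, map_one])

theorem card_H : Nat.card cov.ker = 2 ∧ Nat.card H = 129123503308800 := by
  haveI := finite
  have h := Subgroup.card_mul_index cov.ker
  rw [Subgroup.index_ker, MonoidHom.range_eq_top.mpr cov_surjective, Subgroup.card_top,
    Fi22.card_eq.1] at h
  have h2 : 1 < Nat.card cov.ker := by
    rw [Finite.one_lt_card_iff_nontrivial]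
    refine ⟨⟨⟨⟨z, z_mem⟩, cov_z⟩, 1, fun e => z_ne_one ?_⟩⟩
    exact congrArg (fun x : cov.ker => ((x : H) : pres.Gp)) e
  have hle := card_H_le.2
  constructor <;> nlinarith

theorem ker_cases {g : H} (hg : cov g = 1) : (g : pres.Gp) = 1 ∨ (g : pres.Gp) = z := by
  obtain ⟨x, y, hxy, huniv⟩ := Nat.card_eq_two_iff.mp card_H.1
  have hall : ∀ w : cov.ker, w = x ∨ w = y := fun w => by
    have : w ∈ ({x, y} : Set cov.ker) := by rw [huniv]; trivial
    simpa using this
  have hz : (⟨⟨z, z_mem⟩, cov_z⟩ : cov.ker) ≠ 1 :=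
    fun e => z_ne_one (congrArg (fun x : cov.ker => ((x : H) : pres.Gp)) e)
  rcases hall ⟨g, hg⟩ with e | e <;> rcases hall 1 with e1 | e1 <;>
    rcases hall ⟨⟨z, z_mem⟩, cov_z⟩ with ez | ez <;>
    first
      | exact absurd (ez.trans e1.symm) hz
      | exact Or.inl (congrArg (fun x : cov.ker => ((x : H) : pres.Gp)) (e.trans e1.symm))
      | exact Or.inr (congrArg (fun x : cov.ker => ((x : H) : pres.Gp)) (e.trans ez.symm))

theorem faithful : Function.Injective (rep.hom nodup) := by
  rw [injective_iff_map_eq_one]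
  intro g hg
  have hH : g ∈ H := by rw [H_stab.1, InvPres.Rep.mem_stab, hg]; rfl
  rcases ker_cases (g := ⟨g, hH⟩) (snd_eq_one (p := (g, cov ⟨g, hH⟩)) (cov_mem ⟨g, hH⟩) hg) with h | h
  · exact h
  · exact absurd ((congrArg (rep.hom nodup) h).symm.trans hg) z_hom

theorem card_eq : Nat.card pres.Gp = 4089470473293004800 := by
  rw [← Subgroup.card_mul_index H, card_H.2, H_stab.2]

/-- A letter of `H` as an element of `H`. -/
noncomputable def gH (l : ℕ) : H :=
  ⟨pres.subVal A.sel l, by
    rcases Nat.lt_or_ge l A.sel.length with h | h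
    · exact Subgroup.subset_closure ⟨l, h, rfl⟩
    · rw [InvPres.subVal, List.getElem?_eq_none h]
      exact one_mem _⟩

theorem hom_rel {B : Type} [CommGroup B] (f : H →* B) {W : List ℕ} (hW : W ∈ A.rels) :
    evalWord (fun l => f (gH l)) W = 1 := by
  rw [← Glue.evalWord_hom f gH W]
  have : evalWord gH W = 1 := by
    apply Subtype.ext
    have h2 := Glue.evalWord_hom H.subtype gH W
    exact h2.trans (pres.local_rels (sel := A.sel) (rels := A.rels) (by decide +kernel) W hW)
  rw [this, map_one]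

theorem hom_comm_trivial {B : Type} [CommGroup B] (f : H →* B) : f = 1 := by
  have hsq : ∀ i < 9, f (gH i) * f (gH i) = 1 := by
    intro i hi
    have h := hom_rel f (W := [i, i]) (by interval_cases i <;> decide +kernel)
    simpa [evalWord] using h
  have hedge : ∀ i j, i < 9 → j < 9 → [i, j, i, j, i, j] ∈ A.rels → f (gH i) = f (gH j) := by
    intro i j hi hj hW
    have h := hom_rel f hW
    simp only [evalWord, mul_one] at h
    have h1 := hsq i hi
    have h2 := hsq j hj
    have h3 : f (gH i) * f (gH j) = 1 := by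
      calc f (gH i) * f (gH j)
          = (f (gH i) * f (gH i)) * (f (gH j) * f (gH j)) * (f (gH i) * f (gH j)) := by
            rw [h1, h2, one_mul, one_mul]
        _ = f (gH i) * (f (gH j) * (f (gH i) * (f (gH j) * (f (gH i) * f (gH j))))) := by
            ac_rfl
        _ = 1 := h
    exact (eq_inv_of_mul_eq_one_left h3).trans (inv_eq_of_mul_eq_one_right h2)
  have e1 := hedge 0 1 (by omega) (by omega) (by decide +kernel)
  have e2 := hedge 1 2 (by omega) (by omega) (by decide +kernel)
  have e3 := hedge 2 3 (by omega) (by omega) (by decide +kernel)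
  have e4 := hedge 3 4 (by omega) (by omega) (by decide +kernel)
  have e5 := hedge 4 5 (by omega) (by omega) (by decide +kernel)
  have e6 := hedge 5 6 (by omega) (by omega) (by decide +kernel)
  have e7 := hedge 3 7 (by omega) (by omega) (by decide +kernel)
  have e8 := hedge 7 8 (by omega) (by omega) (by decide +kernel)
  have h0 : f (gH 0) = 1 := by
    have h := hom_rel f (W := repWord [0, 1, 2, 3, 4, 5, 7] 9) (by decide +kernel)
    rw [evalWord_repWord] at h
    simp only [evalWord, mul_one, ← e7, ← e5, ← e4, ← e3, ← e2, ← e1] at h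
    have h2 := hsq 0 (by omega)
    simpa [h2, pow_succ, mul_assoc] using h
  refine MonoidHom.eq_of_eqOn_dense
    (s := ((↑) : H → pres.Gp) ⁻¹' (pres.subVal A.sel '' Set.Iio A.sel.length))
    Subgroup.closure_closure_coe_preimage ?_
  rintro g ⟨l, hl, hlg⟩
  have : g = gH l := Subtype.ext hlg.symm
  subst this
  have hl9 : l < 9 := hl
  show f (gH l) = 1
  interval_cases l <;> simp only [← e8, ← e7, ← e6, ← e5, ← e4, ← e3, ← e2, ← e1, h0]

theorem perfect : commutator H = ⊤ := by
  rw [← Abelianization.ker_of, hom_comm_trivial Abelianization.of, MonoidHom.ker_one]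

end Cfsg.Agent.CosetEnum.Fi23
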