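import Cfsg.Agent.SporB.Fi23.Main
import Cfsg.Prelude.Def_Sporadic
import Mathlib.GroupTheory.GroupAction.ConjAct

/-!
The conjugates of the central involution form a class of 31671 3-transpositions of `Fi23`.
-/

set_option autoImplicit false
set_option maxRecDepth 100000

namespace Cfsg.Agent.CosetEnum.Fi23

/-- A nonsplit double cover transports along an isomorphism. -/
theorem doubleCover_congr {A B K : Type} [Group A] [Group B] [Group K] (φ : A ≃* B)
    (h : IsNonsplitDoubleCover A K) : IsNonsplitDoubleCover B K := by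
  obtain ⟨hcard, ⟨q⟩, hns⟩ := h
  have hz : (Subgroup.center A).map φ.toMonoidHom = Subgroup.center B := by
    ext x
    rw [Subgroup.mem_map_equiv, Subgroup.mem_center_iff, Subgroup.mem_center_iff]
    constructor <;> intro h y
    · apply φ.symm.injective
      rw [map_mul, map_mul]; exact h _
    · apply φ.injective
      rw [map_mul, map_mul, φ.apply_symm_apply]; exact h _
  refine ⟨?_, ⟨(QuotientGroup.congr _ _ φ hz).symm.trans q⟩, fun L hL => hns (L.comap φ.toMonoidHom) ?_⟩
  · rw [← hz, Subgroup.card_map_of_injective (f := φ.toMonoidHom) φ.injective]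
    exact hcard
  · refine Subgroup.isComplement'_of_disjoint_and_mul_eq_univ ?_ ?_
    · rw [Subgroup.disjoint_def]
      intro x hx hxL
      apply φ.injective
      rw [map_one]
      refine Subgroup.disjoint_def.mp hL.disjoint ?_ hxL
      rw [← hz]
      exact Subgroup.mem_map_of_mem φ.toMonoidHom hx
    · refine Set.eq_univ_of_forall fun a => ?_
      obtain ⟨⟨⟨c, hc⟩, ⟨l, hl⟩⟩, hcl, -⟩ := hL.existsUnique (φ a)
      rw [← hz] at hc
      obtain ⟨c', hc', rfl⟩ := hc
      refine Set.mem_mul.mpr ⟨c', hc', φ.symm l, ?_, ?_⟩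
      · show φ (φ.symm l) ∈ L
        rw [φ.apply_symm_apply]; exact hl
      · apply φ.injective
        rw [map_mul, φ.apply_symm_apply]
        exact hcl

theorem z_sq : z * z = 1 := by
  rw [z_conj]
  have h : pres.val Rep.conjL * pres.val Rep.conjL = 1 := by
    rw [InvPres.val, letterVal_of_lt _ _ (by decide)]
    exact pres.sq_val _
  calc evalWord pres.val Rep.conjU * pres.val Rep.conjL * (evalWord pres.val Rep.conjU)⁻¹ *
        (evalWord pres.val Rep.conjU * pres.val Rep.conjL * (evalWord pres.val Rep.conjU)⁻¹)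
      = evalWord pres.val Rep.conjU * (pres.val Rep.conjL * pres.val Rep.conjL) *
        (evalWord pres.val Rep.conjU)⁻¹ := by group
    _ = 1 := by rw [h]; group

theorem centralizer_z : Subgroup.centralizer ({z} : Set pres.Gp) = H := by
  have hle : H ≤ Subgroup.centralizer {z} := fun g hg => by
    rw [Subgroup.mem_centralizer_singleton_iff]
    have h : (⟨z, z_mem⟩ : H) ∈ Subgroup.center H := center_H ▸ cov_z
    exact congrArg Subtype.val (Subgroup.mem_center_iff.mp h ⟨g, hg⟩)
  rcases maximal _ hle with h | h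
  · exact h
  · exfalso
    haveI := simple
    rcases (inferInstance : (Subgroup.center pres.Gp).Normal).eq_bot_or_eq_top with e | e
    · have hc : z ∈ Subgroup.center pres.Gp := Subgroup.mem_center_iff.mpr fun g =>
        Subgroup.mem_centralizer_singleton_iff.mp (h ▸ Subgroup.mem_top g)
      rw [e, Subgroup.mem_bot] at hc
      exact z_ne_one hc
    · letI : CommGroup pres.Gp :=
        { (inferInstance : Group pres.Gp) with
          mul_comm := fun a b => (Subgroup.mem_center_iff.mp (e ▸ Subgroup.mem_top b) a) }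
      have hp := IsSimpleGroup.prime_card (α := pres.Gp)
      rw [card_eq] at hp
      exact absurd hp (by norm_num)

/-- A word whose value conjugates `z` to a transposition at distance given by a local word. -/
def rootWord (m : List ℕ) : List ℕ := Rep.conjU ++ (m ++ Rep.conjU.reverse)

theorem root_case (m : List ℕ) (y k : ℕ) (hy : (evalWord pres.val m)⁻¹ * pres.val 1 * evalWord pres.val m = pres.val y)
    (hk : (pres.val 1 * pres.val y) ^ k = 1) :
    (z * ((evalWord pres.val (rootWord m))⁻¹ * z * evalWord pres.val (rootWord m))) ^ k = 1 := by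
  have hzc : z = evalWord pres.val Rep.conjU * pres.val 1 * (evalWord pres.val Rep.conjU)⁻¹ := z_conj
  have e : z * ((evalWord pres.val (rootWord m))⁻¹ * z * evalWord pres.val (rootWord m)) =
      MulAut.conj (evalWord pres.val Rep.conjU) (pres.val 1 * pres.val y) := by
    rw [MulAut.conj_apply, rootWord, evalWord_append, evalWord_append, inv_word, ← hy, hzc]
    group
  rw [e, ← map_pow, hk, map_one]

theorem val_sq (l : ℕ) (h : [l, l] ∈ pres.relWords) : pres.val l * pres.val l = 1 := by
  simpa [evalWord] using pres.rel_val _ h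

theorem case_far : (evalWord pres.val [0, 1])⁻¹ * pres.val 1 * evalWord pres.val [0, 1] = pres.val 0 ∧
    (pres.val 1 * pres.val 0) ^ 3 = 1 := by
  have h1 := val_sq 1 (by decide +kernel)
  have h0 := val_sq 0 (by decide +kernel)
  have hb := pres.rel_val [1, 0, 1, 0, 1, 0] (by decide +kernel)
  simp only [evalWord] at hb
  constructor
  · have e := braid h1 h0 hb
    have ei : (evalWord pres.val [0, 1])⁻¹ = pres.val 1 * pres.val 0 := by
      simp only [evalWord, mul_one, mul_inv_rev, inv_eq_of_mul_eq_one_right h1,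
        inv_eq_of_mul_eq_one_right h0]
    rw [ei]
    rw [mul_inv_rev, inv_eq_of_mul_eq_one_right h1, inv_eq_of_mul_eq_one_right h0] at e
    simp only [evalWord, mul_one]
    exact e
  · simpa [pow_succ, mul_assoc] using hb

theorem case_near : (evalWord pres.val [2, 1, 3, 2])⁻¹ * pres.val 1 * evalWord pres.val [2, 1, 3, 2] = pres.val 3 ∧
    (pres.val 1 * pres.val 3) ^ 2 = 1 := by
  have h1 := val_sq 1 (by decide +kernel)
  have h2 := val_sq 2 (by decide +kernel)
  have h3 := val_sq 3 (by decide +kernel)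
  have hb := pres.rel_val [1, 2, 1, 2, 1, 2] (by decide +kernel)
  have hc := pres.rel_val [2, 3, 2, 3, 2, 3] (by decide +kernel)
  have hd := pres.rel_val [1, 3, 1, 3] (by decide +kernel)
  simp only [evalWord] at hb hc hd
  constructor
  · have eb := braid h1 h2 hb
    have ec := braid h2 h3 hc
    rw [mul_inv_rev, inv_eq_of_mul_eq_one_right h1, inv_eq_of_mul_eq_one_right h2] at eb
    rw [mul_inv_rev, inv_eq_of_mul_eq_one_right h2, inv_eq_of_mul_eq_one_right h3] at ec
    simp only [evalWord, mul_one, mul_inv_rev, inv_eq_of_mul_eq_one_right h1,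
      inv_eq_of_mul_eq_one_right h2, inv_eq_of_mul_eq_one_right h3]
    calc _ = pres.val 2 * pres.val 3 * (pres.val 1 * pres.val 2 * pres.val 1 * (pres.val 2 * pres.val 1)) *
          (pres.val 3 * pres.val 2) := by simp only [mul_assoc]
      _ = pres.val 3 := by rw [eb, ec]
  · simpa [pow_succ, mul_assoc] using hd

theorem conj_cases (k : pres.Gp) :
    (z * (k * z * k⁻¹)) ^ 2 = 1 ∨ (z * (k * z * k⁻¹)) ^ 3 = 1 := by
  have hH : ∀ h ∈ H, h * z * h⁻¹ = z := fun h hh => by
    rw [← centralizer_z, Subgroup.mem_centralizer_singleton_iff] at hh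
    rw [hh, mul_inv_cancel_right]
  generalize hlab : Rep.orb.getLab (rep.hom nodup k rep.base) = c
  have hc' : c < 3 := hlab ▸ Nat.le_of_ble_eq_true (allRange_spec Rep.lab_ok _ (Nat.zero_le _)
    (show ((rep.hom nodup k rep.base : Fin Rep.tbl.n) : ℕ) < 0 + 31671 from by
      rw [Nat.zero_add]; exact (rep.hom nodup k rep.base).2))
  have reduce : ∀ g : pres.Gp, Rep.orb.getLab (rep.hom nodup g rep.base) = c →
      ∃ h : pres.Gp, z * (k * z * k⁻¹) = MulAut.conj h (z * (g * z * g⁻¹)) := by
    intro g hg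
    obtain ⟨h, hh, hhg⟩ := same_orbit (i := rep.hom nodup g rep.base)
      (j := rep.hom nodup k rep.base) (by rw [hg, hlab])
    refine ⟨h, ?_⟩
    have hs : (h * g)⁻¹ * k ∈ H := by
      rw [H_stab.1, InvPres.Rep.mem_stab, map_mul, map_inv, Equiv.Perm.mul_apply,
        Equiv.Perm.inv_eq_iff_eq, map_mul, Equiv.Perm.mul_apply]
      exact hhg.symm
    have e := hH _ hs
    have ek : k * z * k⁻¹ = (h * g) * z * (h * g)⁻¹ := by
      calc k * z * k⁻¹ = (h * g) * (((h * g)⁻¹ * k) * z * ((h * g)⁻¹ * k)⁻¹) * (h * g)⁻¹ := by group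
        _ = _ := by rw [e]
    have eh := hH _ hh
    rw [MulAut.conj_apply, ek]
    calc z * (h * g * z * (h * g)⁻¹) = (h * z * h⁻¹) * (h * g * z * (h * g)⁻¹) := by rw [eh]
      _ = _ := by group
  have point : ∀ W : List ℕ, (W.all fun l => Nat.blt l 10) = true →
      ((rep.hom nodup (evalWord pres.val W)⁻¹ rep.base : Fin Rep.tbl.n) : ℕ) = Rep.tbl.run W 0 := by
    intro W hW
    rw [map_inv, rep.hom_inv_apply nodup
      (fun l hl => Nat.le_of_ble_eq_true (List.all_eq_true.mp hW l hl))]
    rfl
  interval_cases c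
  · obtain ⟨h, hh⟩ := reduce 1 (by rw [map_one]; decide +kernel)
    left
    rw [hh, ← map_pow]
    simp [z_sq]
  · obtain ⟨h, hh⟩ := reduce (evalWord pres.val (rootWord [0, 1]))⁻¹ (by
      rw [point _ (by decide +kernel)]
      exact Nat.eq_of_beq_eq_true (by decide +kernel))
    right
    rw [hh, ← map_pow, inv_inv, root_case [0, 1] 0 3 case_far.1 case_far.2, map_one]
  · obtain ⟨h, hh⟩ := reduce (evalWord pres.val (rootWord [2, 1, 3, 2]))⁻¹ (by
      rw [point _ (by decide +kernel)]
      exact Nat.eq_of_beq_eq_true (by decide +kernel))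
    left
    rw [hh, ← map_pow, inv_inv, root_case [2, 1, 3, 2] 3 2 case_near.1 case_near.2, map_one]

theorem fi23_class : ∃ D : Set pres.Gp, Cfsg.IsThreeTranspositionClass D ∧ Nat.card D = 31671 ∧
    ∀ d ∈ D, ∃ (K : Type) (_ : Group K), Cfsg.IsFi22 K ∧
      Cfsg.IsNonsplitDoubleCover (Subgroup.centralizer ({d} : Set pres.Gp)) K := by
  have hmem : ∀ {d : pres.Gp}, d ∈ conjugatesOf z → ∃ g, g * z * g⁻¹ = d := fun hd =>
    isConj_iff.mp hd
  refine ⟨conjugatesOf z, ⟨⟨?_, ?_⟩, ⟨z, mem_conjugatesOf_self, rfl⟩, ?_⟩, ?_, ?_⟩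
  · intro d hd
    obtain ⟨g, rfl⟩ := hmem hd
    haveI : Fact (Nat.Prime 2) := ⟨Nat.prime_two⟩
    refine orderOf_eq_prime ?_ ?_
    · rw [← MulAut.conj_apply, ← map_pow, pow_two, z_sq, map_one]
    · rw [← MulAut.conj_apply]
      exact fun h => z_ne_one ((MulAut.conj g).injective (h.trans (map_one _).symm))
  · intro d hd e he
    obtain ⟨g, rfl⟩ := hmem hd
    obtain ⟨g', rfl⟩ := hmem he
    have e2 : g * z * g⁻¹ * (g' * z * g'⁻¹) =
        MulAut.conj g (z * ((g⁻¹ * g') * z * (g⁻¹ * g')⁻¹)) := by
      rw [MulAut.conj_apply]; group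
    rw [e2, ← map_pow, ← map_pow]
    rcases conj_cases (g⁻¹ * g') with h | h
    · left; rw [h, map_one]
    · right; rw [h, map_one]
  · have hn : (Subgroup.normalClosure ({z} : Set pres.Gp)) = Subgroup.closure (conjugatesOf z) := by
      rw [Subgroup.normalClosure, Group.conjugatesOfSet]
      simp
    rw [← hn]
    exact top_of_mem _ (Subgroup.subset_normalClosure (Set.mem_singleton z))
  · have e : MulAction.orbit (ConjAct pres.Gp) z = conjugatesOf z := by
      ext x
      rw [ConjAct.mem_orbit_conjAct]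
      exact ⟨IsConj.symm, IsConj.symm⟩
    rw [← e, Nat.card_coe_set_eq, ← MulAction.index_stabilizer, ConjAct.stabilizer_eq_centralizer]
    show (Subgroup.centralizer {z}).index = 31671
    rw [centralizer_z]
    exact H_stab.2
  · intro d hd
    obtain ⟨g, rfl⟩ := hmem hd
    have e : (Subgroup.centralizer ({z} : Set pres.Gp)).map (MulAut.conj g).toMonoidHom =
        Subgroup.centralizer {g * z * g⁻¹} := by
      ext x
      rw [Subgroup.mem_map_equiv, Subgroup.mem_centralizer_singleton_iff,
        Subgroup.mem_centralizer_singleton_iff, MulAut.conj_symm_apply]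
      constructor <;> intro h
      · calc x * (g * z * g⁻¹) = g * ((g⁻¹ * x * g) * z) * g⁻¹ := by group
          _ = g * (z * (g⁻¹ * x * g)) * g⁻¹ := by rw [h]
          _ = _ := by group
      · calc g⁻¹ * x * g * z = g⁻¹ * (x * (g * z * g⁻¹)) * g := by group
          _ = g⁻¹ * ((g * z * g⁻¹) * x) * g := by rw [h]
          _ = _ := by group
    let φ : H ≃* Subgroup.centralizer ({g * z * g⁻¹} : Set pres.Gp) :=
      ((MulEquiv.subgroupCongr centralizer_z).symm.trans
        ((MulAut.conj g).subgroupMap _)).trans (MulEquiv.subgroupCongr e)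
    exact ⟨Fi22.pres.Gp, inferInstance, ⟨Fi22.simple, Fi22.card_eq.1⟩, doubleCover_congr φ double_cover⟩

end Cfsg.Agent.CosetEnum.Fi23
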