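import Cfsg.Agent.SporB.Fi23.Main

set_option autoImplicit false
set_option maxRecDepth 100000

namespace Cfsg.Agent.CosetEnum.Fi23

theorem H_eq : (Subgroup.closure ({Cfsg.Spor.Fi23.a, Cfsg.Spor.Fi23.b, Cfsg.Spor.Fi23.c, Cfsg.Spor.Fi23.d, Cfsg.Spor.Fi23.e, Cfsg.Spor.Fi23.f, Cfsg.Spor.Fi23.g, Cfsg.Spor.Fi23.h, Cfsg.Spor.Fi23.i} : Set (FreeGroup Cfsg.Spor.Fi23.Gen))).map (PresentedGroup.mk (Cfsg.Spor.coxRelators Cfsg.Spor.Fi23.edges ∪ {r | r ∈ Cfsg.Spor.Fi23.extra})) = H := by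
  rw [MonoidHom.map_closure, H, pres.sub_eq_closure]
  simp only [Set.image_insert_eq, Set.image_singleton]
  apply congrArg Subgroup.closure
  ext g
  have v0 : pres.val 0 = PresentedGroup.mk _ Cfsg.Spor.Fi23.a := rfl
  have v1 : pres.val 1 = PresentedGroup.mk _ Cfsg.Spor.Fi23.b := rfl
  have v2 : pres.val 2 = PresentedGroup.mk _ Cfsg.Spor.Fi23.c := rfl
  have v3 : pres.val 3 = PresentedGroup.mk _ Cfsg.Spor.Fi23.d := rfl
  have v4 : pres.val 4 = PresentedGroup.mk _ Cfsg.Spor.Fi23.e := rfl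
  have v5 : pres.val 5 = PresentedGroup.mk _ Cfsg.Spor.Fi23.f := rfl
  have v6 : pres.val 6 = PresentedGroup.mk _ Cfsg.Spor.Fi23.g := rfl
  have v8 : pres.val 8 = PresentedGroup.mk _ Cfsg.Spor.Fi23.h := rfl
  have v9 : pres.val 9 = PresentedGroup.mk _ Cfsg.Spor.Fi23.i := rfl
  show _ ↔ g ∈ [pres.val 0, pres.val 1, pres.val 2, pres.val 3, pres.val 4, pres.val 5, pres.val 6, pres.val 8, pres.val 9]
  simp only [v0, v1, v2, v3, v4, v5, v6, v8, v9, Set.mem_insert_iff, Set.mem_singleton_iff]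
  erw [List.mem_cons, List.mem_cons, List.mem_cons, List.mem_cons, List.mem_cons, List.mem_cons, List.mem_cons, List.mem_cons, List.mem_singleton]
  rfl

end Cfsg.Agent.CosetEnum.Fi23
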