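import Cfsg.Agent.SporB.Fi23.Pres
import Cfsg.Agent.SporB.Fi23.Rep.Point
import Cfsg.Agent.SporB.Fi23.Rep.Misc
import Cfsg.Agent.SporB.Fi23.G.Cert
import Cfsg.Agent.SporB.Fi23.A.Cert
import Cfsg.Agent.SporB.Fi23.O.Cert
import Cfsg.Agent.SporB.Fi23.P.Cert
import Cfsg.Agent.SporB.Fi23.E6.Cert
import Cfsg.Agent.SporB.Fi23.D5.Cert
import Cfsg.Agent.SporB.Fi23.A4.Cert

set_option autoImplicit false
set_option maxRecDepth 100000

namespace Cfsg.Agent.CosetEnum.Fi23

theorem nodup : pres.gens.Nodup := by decide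

theorem cover : pres.relWords.all (fun W => W.all (fun l => Nat.blt l Rep.tbl.nl) &&
    decide (W ∈ Rep.shortRels ∨ W.rotate 1 ∈ Rep.shortRels)) = true := by decide +kernel

theorem short_ok : Rep.tbl.OK Rep.shortRels := ⟨by decide, Rep.point⟩

theorem table_ok : Rep.tbl.OK pres.relWords := by
  refine ⟨by decide, fun i hi => ?_⟩
  have hp := Rep.point i hi
  rw [Tbl.checkPoint, Bool.and_eq_true] at hp ⊢
  refine ⟨hp.1, List.all_eq_true.mpr fun W hW => ?_⟩
  have hc := List.all_eq_true.mp cover W hW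
  rw [Bool.and_eq_true, decide_eq_true_eq] at hc
  rw [Bool.and_eq_true]
  refine ⟨hc.1, ?_⟩
  have hlet : ∀ l ∈ W, l < Rep.tbl.nl :=
    fun l hl => Nat.le_of_ble_eq_true (List.all_eq_true.mp hc.1 l hl)
  have hone : evalWord (fun l => (short_ok.letterPerm l)⁻¹) W = 1 := by
    rcases hc.2 with h | h
    · exact short_ok.evalWord_rel h
    · cases W with
      | nil => rfl
      | cons a as =>
        have h1 := short_ok.evalWord_rel h
        rw [List.rotate_cons_succ, List.rotate_zero, evalWord_append] at h1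
        show (short_ok.letterPerm a)⁻¹ * evalWord (fun l => (short_ok.letterPerm l)⁻¹) as = 1
        simp only [evalWord, mul_one] at h1
        exact mul_eq_one_comm.mp h1
  have h2 := short_ok.evalWord_run W hlet ⟨i, hi⟩
  rw [hone] at h2
  simp only [inv_one, Equiv.Perm.one_apply] at h2
  rw [← h2]
  exact Nat.beq_refl i

/-- The table as a representation of the presented group. -/
theorem rep : pres.Rep Rep.tbl where
  ok := table_ok
  nl := rfl
  invs := Rep.invs_ok

/-- The subgroup generated by all letters but `j`. -/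
def H : Subgroup pres.Gp := pres.sub A.sel

theorem bound_G : H.index ≠ 0 ∧ H.index ≤ 31671 := by
  have h := pres.relIndex_le G.cert rfl G.inv_ok (rels := G.rels) (by decide +kernel) G.rules_ok
    (pres.subs_mem G.sel A.sel (by decide +kernel))
  rwa [show pres.sub G.sel = ⊤ from pres.sub_all _ rfl, Subgroup.relIndex_top_right] at h

theorem bound_A : (pres.sub O.sel).relIndex (pres.sub A.sel) ≠ 0 ∧
    (pres.sub O.sel).relIndex (pres.sub A.sel) ≤ 14080 :=
  pres.relIndex_le A.cert rfl A.inv_ok (rels := A.rels) (by decide +kernel) A.rules_ok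
    (pres.subs_mem A.sel O.sel (by decide +kernel))

theorem bound_O : (pres.sub P.sel).relIndex (pres.sub O.sel) ≠ 0 ∧
    (pres.sub P.sel).relIndex (pres.sub O.sel) ≤ 728 :=
  pres.relIndex_le O.cert rfl O.inv_ok (rels := O.rels) (by decide +kernel) O.rules_ok
    (pres.subs_mem O.sel P.sel (by decide +kernel))

theorem bound_P : (pres.sub E6.sel).relIndex (pres.sub P.sel) ≠ 0 ∧
    (pres.sub E6.sel).relIndex (pres.sub P.sel) ≤ 243 :=
  pres.relIndex_le P.cert rfl P.inv_ok (rels := P.rels) (by decide +kernel) P.rules_ok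
    (pres.subs_mem P.sel E6.sel (by decide +kernel))

theorem bound_E6 : (pres.sub D5.sel).relIndex (pres.sub E6.sel) ≠ 0 ∧
    (pres.sub D5.sel).relIndex (pres.sub E6.sel) ≤ 27 :=
  pres.relIndex_le E6.cert rfl E6.inv_ok (rels := E6.rels) (by decide +kernel) E6.rules_ok
    (pres.subs_mem E6.sel D5.sel (by decide +kernel))

theorem bound_D5 : (pres.sub A4.sel).relIndex (pres.sub D5.sel) ≠ 0 ∧
    (pres.sub A4.sel).relIndex (pres.sub D5.sel) ≤ 16 :=
  pres.relIndex_le D5.cert rfl D5.inv_ok (rels := D5.rels) (by decide +kernel) D5.rules_ok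
    (pres.subs_mem D5.sel A4.sel (by decide +kernel))

theorem bound_A4 : (⊥ : Subgroup pres.Gp).relIndex (pres.sub A4.sel) ≠ 0 ∧
    (⊥ : Subgroup pres.Gp).relIndex (pres.sub A4.sel) ≤ 120 :=
  pres.relIndex_le A4.cert rfl A4.inv_ok (rels := A4.rels) (by decide +kernel) A4.rules_ok
    (fun W hW => absurd hW (List.not_mem_nil (a := W)))

theorem card_H_le : Nat.card H ≠ 0 ∧ Nat.card H ≤ 129123503308800 := by
  have h1 : pres.sub A4.sel ≤ pres.sub D5.sel := pres.sub_mono (by decide)
  have h2 : pres.sub D5.sel ≤ pres.sub E6.sel := pres.sub_mono (by decide)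
  have h3 : pres.sub E6.sel ≤ pres.sub P.sel := pres.sub_mono (by decide)
  have h4 : pres.sub P.sel ≤ pres.sub O.sel := pres.sub_mono (by decide)
  have h5 : pres.sub O.sel ≤ pres.sub A.sel := pres.sub_mono (by decide)
  rw [H, show Nat.card (pres.sub A.sel) = (⊥ : Subgroup pres.Gp).relIndex (pres.sub A4.sel) *
      (pres.sub A4.sel).relIndex (pres.sub D5.sel) * (pres.sub D5.sel).relIndex (pres.sub E6.sel) *
      (pres.sub E6.sel).relIndex (pres.sub P.sel) * (pres.sub P.sel).relIndex (pres.sub O.sel) *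
      (pres.sub O.sel).relIndex (pres.sub A.sel) by
    rw [Subgroup.relIndex_mul_relIndex _ _ _ bot_le h1, Subgroup.relIndex_mul_relIndex _ _ _ bot_le h2,
      Subgroup.relIndex_mul_relIndex _ _ _ bot_le h3, Subgroup.relIndex_mul_relIndex _ _ _ bot_le h4,
      Subgroup.relIndex_mul_relIndex _ _ _ bot_le h5, Subgroup.relIndex_bot_left]]
  refine ⟨?_, ?_⟩
  · simp only [Nat.mul_ne_zero_iff]
    exact ⟨⟨⟨⟨⟨bound_A4.1, bound_D5.1⟩, bound_E6.1⟩, bound_P.1⟩, bound_O.1⟩, bound_A.1⟩
  · calc _ ≤ 120 * 16 * 27 * 243 * 728 * 14080 :=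
          Nat.mul_le_mul (Nat.mul_le_mul (Nat.mul_le_mul (Nat.mul_le_mul
            (Nat.mul_le_mul bound_A4.2 bound_D5.2) bound_E6.2) bound_P.2) bound_O.2) bound_A.2
      _ = _ := by norm_num

theorem finite : Finite pres.Gp := by
  apply Nat.finite_of_card_ne_zero
  rw [← Subgroup.card_mul_index H]
  exact Nat.mul_ne_zero card_H_le.1 bound_G.1

theorem H_stab : H = rep.stab nodup ∧ H.index = 31671 :=
  rep.eq_stab nodup Rep.descend (pres.le_stab rep nodup A.sel (by decide +kernel))
    bound_G.1 bound_G.2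

theorem stab_closure : rep.stab nodup =
    Subgroup.closure {g | ∃ W ∈ Rep.ws, evalWord pres.val W = g} := by
  rw [← H_stab.1, H, pres.sub_words, show A.sel.map (fun l => [l]) = Rep.ws by decide]

end Cfsg.Agent.CosetEnum.Fi23
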