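import Cfsg.Agent.Lib.CosetEnum.Cox
import Cfsg.Prelude.Def_Spor_Fi23

set_option autoImplicit false

namespace Cfsg.Agent.CosetEnum.Fi23

open Cfsg.Spor

/-- The generators of `Fi23` in order. -/
def genList : List Cfsg.Spor.Fi23.Gen := [.a, .b, .c, .d, .e, .f, .g, .j, .h, .i]

/-- The extra relators of `Fi23` as words. -/
def extraWords : List (List ℕ) :=
  [repWord [3, 2, 1, 3, 4, 5, 3, 8, 9] 10, repWord [0, 1, 2, 3, 4, 5, 8] 9]

theorem words_iff (A : Type) [Group A] (v : Cfsg.Spor.Fi23.Gen → A) (hv : ∀ x, v x * v x = 1) :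
    (∀ r ∈ Cfsg.Spor.Fi23.extra, FreeGroup.lift v r = 1) ↔
      ∀ W ∈ extraWords, evalWord (letterVal genList v) W = 1 := by
  have h0 : letterVal genList v 0 = v .a := rfl
  have h1 : letterVal genList v 1 = v .b := rfl
  have h2 : letterVal genList v 2 = v .c := rfl
  have h3 : letterVal genList v 3 = v .d := rfl
  have h4 : letterVal genList v 4 = v .e := rfl
  have h5 : letterVal genList v 5 = v .f := rfl
  have h6 : letterVal genList v 6 = v .g := rfl
  have h7 : letterVal genList v 7 = v .j := rfl
  have h8 : letterVal genList v 8 = v .h := rfl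
  have h9 : letterVal genList v 9 = v .i := rfl
  simp [Cfsg.Spor.Fi23.extra, extraWords, evalWord, evalWord_repWord, h0, h1, h2, h3, h4, h5, h6, h7, h8, h9, mul_assoc]

/-- The presentation of `Fi23`. -/
def pres : InvPres Cfsg.Spor.Fi23.Gen where
  edges := Cfsg.Spor.Fi23.edges
  extra := Cfsg.Spor.Fi23.extra
  gens := genList
  words := extraWords
  all_gens x := by cases x <;> decide
  all_nodes x := by cases x <;> decide
  words_iff := words_iff

end Cfsg.Agent.CosetEnum.Fi23
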